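import Cfsg.Agent.Lib.L43Three.Pair

/-!
S3373, assembly: `SL(2,3)` acting on a group of order nine without invariant subgroup of order three
has its central involution inverting every element.
-/

set_option autoImplicit false
set_option linter.style.haveILetI false
set_option linter.unusedSectionVars false

namespace Cfsg.Agent.L43Three

open Subgroup
open Cfsg.Agent.HeisSLThree (SL₂)

theorem sl_pair : ∀ x : SL₂, ∃ a b c : SL₂, a * a * a = 1 ∧ b * b * b = 1 ∧ c * c * c = 1 ∧ x = a * b * c := by
  decide +kernel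

theorem sl_gens : ∃ u w : SL₂, u * u * u = 1 ∧ u ≠ 1 ∧ w * w = -1 ∧
    (u * (u * w * u⁻¹) * u⁻¹ = w * (u * w * u⁻¹) ∨
      u * (u * w * u⁻¹) * u⁻¹ = -1 * (w * (u * w * u⁻¹))) ∧
    (w * (u * w * u⁻¹) = (u * w * u⁻¹) * w ∨ w * (u * w * u⁻¹) = -1 * ((u * w * u⁻¹) * w)) := by
  decide +kernel

theorem sl_closure {u w : SL₂} (hu : u * u * u = 1) (hu1 : u ≠ 1) (hw : w * w = -1) :
    Subgroup.closure ({u, w} : Set SL₂) = ⊤ := by
  refine eq_top_iff.2 fun x _ => ?_
  have hum : u ∈ Subgroup.closure ({u, w} : Set SL₂) := Subgroup.subset_closure (Or.inl rfl)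
  have hwm : w ∈ Subgroup.closure ({u, w} : Set SL₂) := Subgroup.subset_closure (Or.inr rfl)
  have hn : (-1 : SL₂) ∈ Subgroup.closure ({u, w} : Set SL₂) := hw ▸ mul_mem hwm hwm
  obtain ⟨k, hk, j, e⟩ := sl_cover u w x hu hu1 hw
  have hkm : k ∈ Subgroup.closure ({u, w} : Set SL₂) := by
    simp only [List.mem_cons, List.not_mem_nil, or_false] at hk
    rcases hk with rfl | rfl | rfl | rfl
    exacts [one_mem _, hwm, mul_mem hum hwm, mul_mem (mul_mem hum hum) hwm]
  rcases e with rfl | rfl
  exacts [mul_mem hkm (pow_mem hum _), mul_mem hn (mul_mem hkm (pow_mem hum _))]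

variable {V : Type*} [CommGroup V] [Finite V]

/-- The elements fixed by an automorphism. -/
def fixedBy (a : MulAut V) : Subgroup V where
  carrier := {v | a v = v}
  mul_mem' := fun {x y} hx hy => by
    show a (x * y) = x * y
    rw [map_mul, show a x = x from hx, show a y = y from hy]
  one_mem' := map_one a
  inv_mem' := fun {x} hx => by
    show a x⁻¹ = x⁻¹
    rw [map_inv, show a x = x from hx]

theorem mem_fixedBy {a : MulAut V} {v : V} : v ∈ fixedBy a ↔ a v = v := Iff.rfl

/-- The central involution inverts. -/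
theorem act_neg_inverts (hexp : ∀ v : V, v ^ 3 = 1) (hcard : Nat.card V = 9) (φ : SL₂ →* MulAut V)
    (hirr : ∀ B : Subgroup V, (∀ g, ∀ b ∈ B, φ g b ∈ B) → B = ⊥ ∨ B = ⊤)
    (hne : ∃ g v, φ g v ≠ v) (v : V) : φ (-1) v = v⁻¹ := by
  classical
  have happ : ∀ g g' x, φ g (φ g' x) = φ (g * g') x := fun g g' x => by rw [map_mul]; rfl
  have h3 : ∀ x : V, x * x * x = 1 := fun x => by rw [← hexp x, pow_succ, pow_two]
  have inv1 : ∀ x : V, x = x⁻¹ → x = 1 := fun x hx => by
    have h := h3 x
    rw [show x * x = 1 by conv_lhs => arg 2; rw [hx]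
                          exact mul_inv_cancel x, one_mul] at h
    exact h
  have hneg2 : ∀ x, φ (-1) (φ (-1) x) = x := fun x => by
    rw [happ, show (-1 : SL₂) * -1 = 1 by decide +kernel, map_one]; rfl
  rcases hirr (fixedBy (φ (-1))) (fun g b hb => by
    rw [mem_fixedBy, happ, ← HeisSLThree.neg_one_central, ← happ, mem_fixedBy.1 hb]) with h | h
  · -- no fixed point: the product with the image is fixed
    have hm : v * φ (-1) v ∈ fixedBy (φ (-1)) := by
      rw [mem_fixedBy, map_mul, hneg2, mul_comm]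
    rw [h, mem_bot] at hm
    exact eq_inv_of_mul_eq_one_right hm
  exfalso
  have hn1 : ∀ x, φ (-1) x = x := fun x => mem_fixedBy.1 (h ▸ mem_top x)
  have hneg : ∀ g x, φ (-1 * g) x = φ g x := fun g x => by rw [← happ, hn1]
  obtain ⟨u, w, hu, hu1, hw, hrot, hcom⟩ := sl_gens
  set a := φ w with ha
  set b := φ (u * w * u⁻¹) with hb
  have hua : ∀ x, φ u (a x) = b (φ u x) := fun x => by
    rw [hb, ha, happ, happ, inv_mul_cancel_right]
  have hab : ∀ x, a (b x) = b (a x) := fun x => by
    rw [hb, ha, happ, happ]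
    rcases hcom with e | e <;> rw [e]
    exact hneg _ x
  have hub : ∀ x, φ u (b x) = a (b (φ u x)) := fun x => by
    rw [hb, ha, happ, happ, happ, ← inv_mul_cancel_right (u * (u * w * u⁻¹)) u]
    rcases hrot with e | e <;> rw [e, ← happ _ u]
    rw [hneg, happ]
  have ha2 : ∀ x, a (a x) = x := fun x => by rw [ha, happ, hw, hn1]
  have hb2 : ∀ x, b (b x) = x := fun x => by
    rw [hb, happ, show u * w * u⁻¹ * (u * w * u⁻¹) = u * (w * w) * u⁻¹ by group, hw,
      HeisSLThree.neg_one_central, mul_assoc, mul_inv_cancel, mul_one, hn1]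
  have hgen : ∀ B : Subgroup V, (∀ x ∈ B, φ u x ∈ B) → (∀ x ∈ B, a x ∈ B) → B = ⊥ ∨ B = ⊤ := by
    intro B hBu hBa
    refine hirr B fun g => ?_
    have hg : g ∈ Subgroup.closure ({u, w} : Set SL₂) := sl_closure hu hu1 hw ▸ mem_top g
    induction hg using Subgroup.closure_induction with
    | mem x hx =>
        rcases hx with rfl | rfl
        exacts [hBu, hBa]
    | one => exact fun x hx => by rw [map_one]; exact hx
    | mul x y _ _ hx hy => exact fun z hz => by rw [← happ]; exact hx _ (hy z hz)
    | inv x _ hx =>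
        intro z hz
        obtain ⟨n, hn⟩ : ∃ n : ℕ, x⁻¹ = x ^ n :=
          ⟨orderOf x - 1, inv_eq_of_mul_eq_one_right (by
            rw [← pow_succ', Nat.sub_add_cancel (orderOf_pos x), pow_orderOf_eq_one])⟩
        rw [hn]
        clear hn
        induction n with
        | zero => rw [pow_zero, map_one]; exact hz
        | succ k ih => rw [pow_succ', ← happ]; exact hx _ ih
  rcases hgen (fixedBy a ⊓ fixedBy b) (fun x hx => by
    obtain ⟨hxa, hxb⟩ := hx
    change a x = x at hxa
    change b x = x at hxb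
    have e1 : b (φ u x) = φ u x := by rw [← hua, hxa]
    have e2 : a (φ u x) = φ u x := by
      have := hub x
      rw [hxb, e1] at this
      exact this.symm
    exact ⟨e2, e1⟩) (fun x hx => by
    obtain ⟨hxa, hxb⟩ := hx
    change a x = x at hxa
    change b x = x at hxb
    rw [hxa]; exact ⟨hxa, hxb⟩) with hE | hE
  · -- three independent lines in a group of order nine
    have hfix : ∀ x, x ∈ fixedBy a → x ∈ fixedBy b → x = 1 := fun x h1 h2 => by
      rw [← mem_bot, ← hE]; exact ⟨h1, h2⟩
    have hbinv : ∀ s, a s = s → b s = s⁻¹ := fun s hs => by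
      refine eq_inv_of_mul_eq_one_right (hfix _ ?_ ?_) <;> rw [mem_fixedBy, map_mul]
      · rw [hab, hs]
      · rw [hb2, mul_comm]
    have hainv : ∀ s, b s = s → a s = s⁻¹ := fun s hs => by
      refine eq_inv_of_mul_eq_one_right (hfix _ ?_ ?_) <;> rw [mem_fixedBy, map_mul]
      · rw [ha2, mul_comm]
      · rw [← hab, hs]
    have hcinv : ∀ s, a (b s) = s → a s = s⁻¹ ∧ b s = s⁻¹ := fun s hs => by
      have e : b s = a s := by rw [← ha2 (b s), hs]
      have := eq_inv_of_mul_eq_one_right (a := s) (b := a s) (hfix _ (by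
        rw [mem_fixedBy, map_mul, ha2, mul_comm]) (by
        rw [mem_fixedBy, map_mul, ← e, hb2, mul_comm]))
      exact ⟨this, e.trans this⟩
    have hex : ∃ s, a s = s ∧ s ≠ 1 := by
      by_contra hno
      push Not at hno
      have hinv : ∀ x, a x = x⁻¹ := fun x => eq_inv_of_mul_eq_one_right
        (hno _ (by rw [map_mul, ha2, mul_comm]))
      have hall : ∀ x, b x = x⁻¹ := fun x => by
        have := hua (φ u⁻¹ x)
        rw [hinv, map_inv, happ, mul_inv_cancel, map_one] at this
        exact this.symm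
      have htriv : ∀ x : V, x = 1 := fun x => inv1 x (by
        have h' := hub (φ u⁻¹ x)
        rw [hall, hinv, map_inv, happ, mul_inv_cancel, map_one, MulAut.one_apply, hall,
          inv_inv] at h'
        exact h'.symm)
      haveI : Subsingleton V := ⟨fun x y => (htriv x).trans (htriv y).symm⟩
      rw [Nat.card_eq_one_iff_unique.2 ⟨inferInstance, ⟨1⟩⟩] at hcard
      omega
    obtain ⟨s, hs, hs1⟩ := hex
    have ht : b (φ u s) = φ u s := by rw [← hua, hs]
    have hr : a (b (φ u (φ u s))) = φ u (φ u s) := by rw [← hub, ht]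
    set t := φ u s
    set r := φ u t
    have ht1 : t ≠ 1 := fun e => hs1 ((φ u).injective (e.trans (map_one _).symm))
    have hr1 : r ≠ 1 := fun e => ht1 ((φ u).injective (e.trans (map_one _).symm))
    let f : fixedBy a × fixedBy b × fixedBy (a * b) →* V :=
      { toFun := fun p => (p.1 : V) * p.2.1 * p.2.2
        map_one' := by simp
        map_mul' := fun p q => by
          simp only [Prod.fst_mul, Prod.snd_mul, Subgroup.coe_mul]
          ac_rfl }
    have hinj : Function.Injective f := by
      rw [injective_iff_map_eq_one]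
      rintro ⟨⟨x, hx⟩, ⟨y, hy⟩, ⟨z, hz⟩⟩ (hxyz : x * y * z = 1)
      rw [mem_fixedBy] at hx hy hz
      have hya := hainv y hy
      obtain ⟨hza, hzb⟩ := hcinv z hz
      have hA := congrArg a hxyz
      rw [map_mul, map_mul, hx, hya, hza, map_one] at hA
      have x1 : x = 1 := inv1 x (eq_inv_of_mul_eq_one_left (by
        calc x * x = x * y * z * (x * y⁻¹ * z⁻¹) := by
              rw [mul_comm x y⁻¹, mul_assoc y⁻¹, mul_assoc, mul_assoc]; 
              simp [mul_comm, mul_left_comm, mul_assoc]
          _ = 1 := by rw [hxyz, hA, one_mul]))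
      rw [x1, one_mul] at hxyz
      have hB := congrArg b hxyz
      rw [map_mul, hy, hzb, map_one] at hB
      have y1 : y = 1 := inv1 y (eq_inv_of_mul_eq_one_left (by
        calc y * y = y * z * (y * z⁻¹) := by simp [mul_comm, mul_left_comm, mul_assoc]
          _ = 1 := by rw [hxyz, hB, one_mul]))
      rw [y1, one_mul] at hxyz
      subst x1 y1 hxyz
      rfl
    have h3le : ∀ (c : MulAut V) (x : V), c x = x → x ≠ 1 → 3 ≤ Nat.card (fixedBy c) := by
      intro c x hx hx1
      haveI : Fact (Nat.Prime 3) := ⟨Nat.prime_three⟩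
      rw [← orderOf_eq_prime (hexp x) hx1, ← Nat.card_zpowers]
      exact Subgroup.card_le_of_le (zpowers_le.2 hx)
    have hle := Nat.card_le_card_of_injective f hinj
    rw [Nat.card_prod, Nat.card_prod, hcard] at hle
    have h1 := h3le a s hs hs1
    have h2 := h3le b t ht ht1
    have h4 := h3le (a * b) r hr hr1
    have h5 : 3 * (3 * 3) ≤ 9 :=
      le_trans (Nat.mul_le_mul h1 (Nat.mul_le_mul h2 h4)) hle
    omega
  · -- the elements of order four act trivially
    have hax : ∀ x, a x = x := fun x => ((hE ▸ mem_top x : x ∈ fixedBy a ⊓ fixedBy b)).1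
    rcases hgen (fixedBy (φ u)) (fun x hx => by rw [mem_fixedBy, mem_fixedBy.1 hx, mem_fixedBy.1 hx])
      (fun x hx => by rw [hax]; exact hx) with hF | hF
    · set D : V → V := fun x => φ u x * x⁻¹ with hD
      have hinjD : ∀ x, D x = 1 → x = 1 := fun x hx => by
        rw [← mem_bot, ← hF, mem_fixedBy]; exact mul_inv_eq_one.1 hx
      have htriv : ∀ x : V, x = 1 := fun x => hinjD x (hinjD _ (hinjD _ (by
        have e : φ u (φ u (φ u x)) = x := by rw [happ, happ, hu, map_one]; rfl
        simp only [hD, map_mul, map_inv, mul_inv_rev, inv_inv, e]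
        have h' := h3 (φ u (φ u x))
        have h'' := h3 (φ u x)
        calc _ = (φ u (φ u x) * φ u (φ u x) * φ u (φ u x))⁻¹ * (φ u x * φ u x * φ u x) := by
              simp [mul_comm, mul_left_comm, mul_assoc]
          _ = 1 := by rw [h', h'', inv_one, one_mul])))
      haveI : Subsingleton V := ⟨fun x y => (htriv x).trans (htriv y).symm⟩
      rw [Nat.card_eq_one_iff_unique.2 ⟨inferInstance, ⟨1⟩⟩] at hcard
      omega
    · obtain ⟨g, x, hgx⟩ := hne
      refine hgx ?_
      have hker : Subgroup.closure ({u, w} : Set SL₂) ≤ φ.ker := by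
        rw [Subgroup.closure_le]
        rintro y (rfl | rfl)
        · exact MulEquiv.ext fun z => mem_fixedBy.1 (hF ▸ mem_top z)
        · exact MulEquiv.ext fun z => hax z
      rw [MonoidHom.mem_ker.1 (hker (sl_closure hu hu1 hw ▸ mem_top g))]
      rfl

end Cfsg.Agent.L43Three
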