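import Cfsg.Agent.Lib.L43Three.CaseA.Main
import Cfsg.Agent.Lib.L43Three.CaseB.Bridge.Main
import Cfsg.Agent.Lib.Transfer.Basic

/-!
S3373, assembly: the affine group is a maximal subgroup of `PSL(4,3)`.
-/

set_option autoImplicit false
set_option linter.style.haveILetI false
set_option linter.unusedSectionVars false
set_option maxRecDepth 20000
set_option maxHeartbeats 1000000
set_option linter.constructorNameAsVariable false

namespace Cfsg.Agent.L43Three

open Subgroup Matrix
open WreathChar (Z3)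
open CaseB (S4)

namespace Assembly

/-- The block matrix of an affine map. -/
def phiM (A : Matrix (Fin 3) (Fin 3) K) (v : Vec) : Matrix (Fin 4) (Fin 4) K :=
  !![A 0 0, A 0 1, A 0 2, v 0; A 1 0, A 1 1, A 1 2, v 1; A 2 0, A 2 1, A 2 2, v 2; 0, 0, 0, 1]

theorem det_phiM (A : Matrix (Fin 3) (Fin 3) K) (v : Vec) : (phiM A v).det = A.det := by
  rw [Matrix.det_succ_row _ 3, Fin.sum_univ_four, Matrix.det_fin_three, Matrix.det_fin_three,
    Matrix.det_fin_three, Matrix.det_fin_three, Matrix.det_fin_three]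
  simp [phiM, Matrix.submatrix, Fin.succAbove]
  ring

theorem phiM_mul (A B : Matrix (Fin 3) (Fin 3) K) (v w : Vec) :
    phiM A v * phiM B w = phiM (A * B) (v + A *ᵥ w) := by
  ext i j
  fin_cases i <;> fin_cases j <;>
    simp [phiM, Matrix.mul_apply, Fin.sum_univ_succ, Matrix.mulVec, dotProduct] <;> ring

/-- The affine group in `SL(4,3)`. -/
def phi : Aff →* S4 :=
  MonoidHom.mk' (fun a => ⟨phiM a.right.1 a.left.toAdd, (det_phiM _ _).trans a.right.2⟩) fun a b => by
    refine Subtype.ext ?_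
    show _ = phiM a.right.1 a.left.toAdd * phiM b.right.1 b.left.toAdd
    rw [phiM_mul]
    rfl

theorem phi_apply (a : Aff) : (phi a).1 = phiM a.right.1 a.left.toAdd := rfl

/-- The affine group in `PSL(4,3)`. -/
def psi : Aff →* Matrix.ProjectiveSpecialLinearGroup (Fin 4) K :=
  (QuotientGroup.mk' (center S4)).comp phi

theorem psi_injective : Function.Injective psi := by
  rw [injective_iff_map_eq_one]
  intro a h
  have hc : phi a ∈ center S4 := (QuotientGroup.eq_one_iff _).1 h
  rcases Bridge.center_S4 hc with e | e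
  · have hM : phiM a.right.1 a.left.toAdd = (1 : Matrix (Fin 4) (Fin 4) K) := congrArg Subtype.val e
    have g : ∀ i j, phiM a.right.1 a.left.toAdd i j = (1 : Matrix (Fin 4) (Fin 4) K) i j :=
      fun i j => by rw [hM]
    refine SemidirectProduct.ext (Multiplicative.toAdd.injective (funext fun i => ?_)) (Subtype.ext ?_)
    · have := g i.castSucc 3
      fin_cases i <;> simpa [phiM] using this
    · ext i j
      have := g i.castSucc j.castSucc
      fin_cases i <;> fin_cases j <;> simpa [phiM] using this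
  · have := congrArg (fun x : S4 => x.1 3 3) e
    simp [phi_apply, phiM] at this
    exact absurd this (by decide)

theorem exists_row : ∀ a b c w : Z3, ¬ (a = .z ∧ b = .z ∧ c = .z) →
    ∃ d e f g h i : Z3, (⟨a, b, c, d, e, f, g, h, i, w, .z, .z⟩ : A3).det = .o := by decide +kernel

theorem mem_range {x : S4} (h0 : x.1 3 0 = 0) (h1 : x.1 3 1 = 0) (h2 : x.1 3 2 = 0) :
    QuotientGroup.mk' (center S4) x ∈ psi.range := by
  suffices key : ∀ y : S4, y.1 3 0 = 0 → y.1 3 1 = 0 → y.1 3 2 = 0 → y.1 3 3 = 1 →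
      y ∈ phi.range by
    have hd := x.2
    rw [Matrix.det_succ_row _ 3, Fin.sum_univ_four, h0, h1, h2] at hd
    have hne : x.1 3 3 ≠ 0 := fun e => by simp [e] at hd
    rcases (by decide : ∀ k : K, k ≠ 0 → k = 1 ∨ k = -1) _ hne with e | e
    · obtain ⟨a, ha⟩ := key x h0 h1 h2 e
      exact ⟨a, by rw [psi, MonoidHom.comp_apply, ha]⟩
    · obtain ⟨a, ha⟩ := key (-x) (by simp [h0]) (by simp [h1]) (by simp [h2]) (by simp [e])
      refine ⟨a, ?_⟩
      rw [psi, MonoidHom.comp_apply, ha]
      refine QuotientGroup.eq.2 ?_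
      rw [show (-x)⁻¹ * x = -1 by rw [← neg_one_mul x]; group; exact Subtype.ext (by simp)]
      exact Bridge.neg_one_center
  intro y h0 h1 h2 h3
  have e : y.1 = phiM (Matrix.of fun i j => y.1 (Fin.castSucc i) (Fin.castSucc j))
      (fun i => y.1 (Fin.castSucc i) 3) := by
    ext i j
    fin_cases i <;> fin_cases j <;> simp [phiM, h0, h1, h2, h3]
  have hd := det_phiM (Matrix.of fun i j => y.1 (Fin.castSucc i) (Fin.castSucc j))
      (fun i => y.1 (Fin.castSucc i) 3)
  rw [← e, y.2] at hd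
  exact ⟨⟨.ofAdd (fun i => y.1 (Fin.castSucc i) 3),
    ⟨Matrix.of fun i j => y.1 (Fin.castSucc i) (Fin.castSucc j), hd.symm⟩⟩, Subtype.ext e.symm⟩

theorem range_isCoatom : IsCoatom psi.range := by
  constructor
  · intro htop
    have hm : QuotientGroup.mk' (center S4)
        (SpecialLinearGroup.transvection (show (3 : Fin 4) ≠ 0 by decide) (1 : K)) ∈ psi.range :=
      htop ▸ mem_top _
    obtain ⟨a, ha⟩ := hm
    have hc := QuotientGroup.eq.1 ha
    have he : ∀ x y : S4, x⁻¹ * y ∈ center S4 → y.1 3 0 ≠ 0 → x.1 3 0 ≠ 0 := by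
      intro x y hxy hy h0
      rcases Bridge.center_S4 hxy with e | e <;> rw [inv_mul_eq_iff_eq_mul] at e <;> subst e
      · exact hy (by simpa using h0)
      · exact hy (by simp [h0])
    exact he _ _ hc (by simp [SpecialLinearGroup.transvection_coe]) (by simp [phi_apply, phiM])
  · intro H hH
    obtain ⟨hle, hnle⟩ := hH
    obtain ⟨gq, hgH, hg⟩ := SetLike.not_le_iff_exists.1 hnle
    obtain ⟨g, rfl⟩ := QuotientGroup.mk'_surjective (center S4) gq
    have stab : ∀ (x y : S4), x.1 3 = y.1 3 → QuotientGroup.mk' (center S4) y ∈ H →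
        QuotientGroup.mk' (center S4) x ∈ H := by
      intro x y hxy hy
      have hrow : (x * y⁻¹).1 3 = (1 : Matrix (Fin 4) (Fin 4) K) 3 := by
        have e : (y * y⁻¹).1 = (1 : Matrix (Fin 4) (Fin 4) K) := by rw [mul_inv_cancel]; rfl
        rw [← e]
        show (x.1 * (y⁻¹).1) 3 = (y.1 * (y⁻¹).1) 3
        funext j
        simp only [Matrix.mul_apply, hxy]
      have := mul_mem (hle (mem_range (x := x * y⁻¹) (by rw [hrow]; rfl) (by rw [hrow]; rfl)
        (by rw [hrow]; rfl))) hy
      rwa [← map_mul, inv_mul_cancel_right] at this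
    -- from a row outside the fixed line to every row outside it
    have move : ∀ y : S4, ¬ (y.1 3 0 = 0 ∧ y.1 3 1 = 0 ∧ y.1 3 2 = 0) → ∃ a : Aff,
        (phi a).1 0 = y.1 3 := by
      intro y hy
      obtain ⟨a, ha⟩ := toZ_surj (y.1 3 0)
      obtain ⟨b, hb⟩ := toZ_surj (y.1 3 1)
      obtain ⟨c, hc⟩ := toZ_surj (y.1 3 2)
      obtain ⟨w, hw⟩ := toZ_surj (y.1 3 3)
      obtain ⟨d, e, f, g', h, i, hd⟩ := exists_row a b c w (by
        rintro ⟨rfl, rfl, rfl⟩
        exact hy ⟨ha.symm, hb.symm, hc.symm⟩)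
      refine ⟨A3.toAff ⟨a, b, c, d, e, f, g', h, i, w, .z, .z⟩, funext fun j => ?_⟩
      rw [phi_apply, A3.toAff_left hd, A3.toAff_right hd]
      fin_cases j <;> simp [phiM, A3.toM, A3.toV, ha, hb, hc, hw]
    have hgrow : ¬ (g.1 3 0 = 0 ∧ g.1 3 1 = 0 ∧ g.1 3 2 = 0) := fun h =>
      hg (mem_range h.1 h.2.1 h.2.2)
    obtain ⟨a, ha⟩ := move g hgrow
    -- the element with last row the first unit vector
    set u := g * (phi a)⁻¹ with hu
    have hurow : u.1 3 = (1 : Matrix (Fin 4) (Fin 4) K) 0 := by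
      have e : (phi a * (phi a)⁻¹).1 = (1 : Matrix (Fin 4) (Fin 4) K) := by rw [mul_inv_cancel]; rfl
      rw [hu, ← e]
      show (g.1 * ((phi a)⁻¹).1) 3 = ((phi a).1 * ((phi a)⁻¹).1) 0
      funext j
      simp only [Matrix.mul_apply, ha]
    have huH : QuotientGroup.mk' (center S4) u ∈ H := by
      rw [hu, map_mul, map_inv]
      exact mul_mem hgH (inv_mem (hle ⟨a, rfl⟩))
    refine eq_top_iff.2 fun xq _ => ?_
    obtain ⟨x, rfl⟩ := QuotientGroup.mk'_surjective (center S4) xq
    by_cases hx : x.1 3 0 = 0 ∧ x.1 3 1 = 0 ∧ x.1 3 2 = 0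
    · exact hle (mem_range hx.1 hx.2.1 hx.2.2)
    · obtain ⟨b, hb⟩ := move x hx
      refine stab x (u * phi b) ?_ ?_
      · rw [← hb]
        show (phi b).1 0 = (u.1 * (phi b).1) 3
        funext j
        simp only [Matrix.mul_apply, hurow, Matrix.one_apply]
        simp
      · rw [map_mul]
        exact mul_mem huH (hle ⟨b, rfl⟩)

theorem card_Aff : Nat.card Aff = 151632 := by
  rw [SemidirectProduct.card, card_sl3]
  simp

/-- The maximal parabolic subgroup of `PSL(4,3)`. -/
theorem exists_maximal {G : Type*} [Group G] (f : Aff ≃* G) :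
    ∃ (P : Subgroup (Matrix.ProjectiveSpecialLinearGroup (Fin 4) (ZMod 3))),
      IsCoatom P ∧ Nat.card (Cfsg.pCore 3 P) = 27 ∧
      Nonempty (P ⧸ Cfsg.pCore 3 P ≃* Matrix.SpecialLinearGroup (Fin 3) (ZMod 3)) ∧
      Nonempty (G ≃* P) := by
  haveI : Fact (Nat.Prime 3) := ⟨Nat.prime_three⟩
  set eP : Aff ≃* psi.range := MonoidHom.ofInjective psi_injective
  set R : psi.range →* SL₃ := SemidirectProduct.rightHom.comp eP.symm.toMonoidHom with hR
  have hRs : Function.Surjective R := SemidirectProduct.rightHom_surjective.comp eP.symm.surjective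
  have hq := Subgroup.card_eq_card_quotient_mul_card_subgroup R.ker
  rw [Nat.card_congr (QuotientGroup.quotientKerEquivOfSurjective R hRs).toEquiv, card_sl3,
    ← Nat.card_congr eP.toEquiv, card_Aff] at hq
  have hk27 : Nat.card R.ker = 27 := by omega
  have hcore : Cfsg.pCore 3 psi.range = R.ker := by
    refine le_antisymm ?_ (PBasic.le_pCore inferInstance (IsPGroup.of_card (n := 3) (by rw [hk27]; rfl)))
    haveI := sl3_simple
    have hn : ((Cfsg.pCore 3 psi.range).map R).Normal := Subgroup.Normal.map inferInstance R hRs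
    rcases hn.eq_bot_or_eq_top with h | h
    · exact Subgroup.map_eq_bot_iff _ |>.1 h
    · exfalso
      have hp : IsPGroup 3 (⊤ : Subgroup SL₃) := h ▸ (PBasic.pCore_isPGroup 3 _).map R
      obtain ⟨n, hn⟩ := IsPGroup.iff_card.1 hp
      rw [Subgroup.card_top, card_sl3] at hn
      have h2 : 2 ∣ 3 ^ n := hn ▸ by norm_num
      have h3 := Nat.Prime.dvd_of_dvd_pow Nat.prime_two h2
      omega
  refine ⟨psi.range, range_isCoatom, by rw [hcore, hk27],
    ⟨(QuotientGroup.quotientMulEquivOfEq hcore).trans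
      (QuotientGroup.quotientKerEquivOfSurjective R hRs)⟩, ⟨f.symm.trans eP⟩⟩

end Assembly

end Cfsg.Agent.L43Three
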