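import Cfsg.Agent.Lib.L43Three.Assembly.Step
import Cfsg.Agent.Lib.Transfer.Basic
import Cfsg.Prelude.Def_Transfer
import Cfsg.Prelude.Def_Solvable

/-!
S3373, assembly: the configuration from the hypotheses of the statement.
-/

set_option autoImplicit false
set_option linter.style.haveILetI false
set_option linter.unusedSectionVars false

namespace Cfsg.Agent.L43Three

open Subgroup
open Cfsg.Agent.HeisSLThree (SL₂)
open scoped commutatorElement

/-- The configuration and a second conjugate in `Q`. -/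
theorem exists_pair {G : Type*} [Group G] [Finite G]
    (S : Sylow 3 G) (Z : Subgroup G) (hZ : Z = (S : Subgroup G) ⊓ Subgroup.centralizer ((S : Subgroup G) : Set G))
    (C : Subgroup G) (hCZ : C = Subgroup.centralizer (Z : Set G))
    (Q : Subgroup G) (hQ : Q = (Cfsg.pCore 3 C).map C.subtype)
    (hQex : Cfsg.IsExtraspecial 3 Q) (hQcard : Nat.card Q = 3 ^ 5) (hQexp : ∀ a ∈ Q, a ^ 3 = 1)
    (hCQ : Subgroup.centralizer (Q : Set G) ≤ Q)
    (hZQ : ∃ x : G, Z.map (MulAut.conj x).toMonoidHom ≤ Q ∧ Z.map (MulAut.conj x).toMonoidHom ≠ Z)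
    (K : Subgroup G) (hK : K = ((Cfsg.pResidual 2 (C ⧸ Cfsg.pCore 3 C)).comap (QuotientGroup.mk' (Cfsg.pCore 3 C))).map C.subtype)
    (r : ℕ) (A : Fin (r + 1) → Subgroup G) (hA0 : A 0 = Z) (hAr : A (Fin.last r) = Q)
    (hmono : ∀ i : Fin r, A i.castSucc < A i.succ)
    (hinv : ∀ i : Fin (r + 1), ∀ k ∈ K, ∀ a ∈ A i, k * a * k⁻¹ ∈ A i)
    (hmax : ∀ i : Fin r, ∀ B : Subgroup G, A i.castSucc < B → B < A i.succ → ∃ k ∈ K, ∃ b ∈ B, k * b * k⁻¹ ∉ B)
    (e : C ⧸ Cfsg.pCore 3 C ≃* Matrix.SpecialLinearGroup (Fin 2) (ZMod 3))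
    (htwo : ∃ i j : Fin r, i ≠ j ∧ (∃ k ∈ K, ∃ a ∈ A i.succ, k * a * k⁻¹ * a⁻¹ ∉ A i.castSucc) ∧ (∃ k ∈ K, ∃ a ∈ A j.succ, k * a * k⁻¹ * a⁻¹ ∉ A j.castSucc) ∧
      ∀ l : Fin r, (∃ k ∈ K, ∃ a ∈ A l.succ, k * a * k⁻¹ * a⁻¹ ∉ A l.castSucc) → l = i ∨ l = j) :
    (∃ _P : Pair G, True) ∧ ¬ 3 ^ 7 ∣ Nat.card G := by
  classical
  haveI : Fact (Nat.Prime 3) := ⟨Nat.prime_three⟩
  -- `K = C`
  have hres : Cfsg.pResidual 2 (C ⧸ Cfsg.pCore 3 C) = ⊤ := by
    refine eq_top_iff.2 fun x _ => ?_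
    have h3 : ∀ a : SL₂, a * a * a = 1 → e.symm a ∈ Cfsg.pResidual 2 (C ⧸ Cfsg.pCore 3 C) := by
      intro a ha
      refine Subgroup.subset_closure ?_
      show Nat.Coprime (orderOf (e.symm a)) 2
      refine Nat.Coprime.coprime_dvd_left (orderOf_dvd_of_pow_eq_one (n := 3) ?_) (by norm_num)
      rw [← map_pow, pow_succ, pow_two, ha, map_one]
    obtain ⟨a, b, c, ha, hb, hc, he⟩ := sl_pair (e x)
    rw [← e.symm_apply_apply x, he, map_mul, map_mul]
    exact mul_mem (mul_mem (h3 a ha) (h3 b hb)) (h3 c hc)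
  rw [hres, Subgroup.comap_top, ← MonoidHom.range_eq_map, Subgroup.range_subtype] at hK
  subst K
  -- `Z` and `Q`
  have hQC : Q ≤ C := hQ ▸ Subgroup.map_subtype_le _
  have hSC : (S : Subgroup G) ≤ C := by
    intro s hs
    rw [hCZ, mem_centralizer_iff]
    intro t ht
    rw [hZ] at ht
    exact (mem_centralizer_iff.1 ht.2 s hs).symm
  have hQS : Q ≤ (S : Subgroup G) := by
    rw [hQ]
    rintro _ ⟨x, hx, rfl⟩
    exact PBasic.pCore_le_sylow (S.subtype hSC) hx
  have hZQ' : Z ≤ Q := fun x hx => hCQ (mem_centralizer_iff.2 fun q hq => by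
    rw [hZ] at hx
    exact mem_centralizer_iff.1 hx.2 q (hQS hq))
  have hcenQ : Nat.card ((center Q).map Q.subtype) = 3 := by
    rw [card_map_of_injective Q.subtype_injective, hQex.2]
  have hZc : Z ≤ (center Q).map Q.subtype := fun x hx => by
    refine ⟨⟨x, hZQ' hx⟩, mem_center_iff.2 fun q => Subtype.ext ?_, rfl⟩
    rw [hZ] at hx
    exact mem_centralizer_iff.1 hx.2 q (hQS q.2)
  have hS1 : Nontrivial ↥(S : Subgroup G) := by
    have : Nat.card Q ≤ Nat.card (S : Subgroup G) := card_le_of_le hQS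
    exact Finite.one_lt_card_iff_nontrivial.1 (by omega)
  obtain ⟨⟨w, hw⟩, hwc, hw1⟩ := (Subgroup.nontrivial_iff_exists_ne_one _).1
    (S.2.center_nontrivial : Nontrivial (center (S : Subgroup G)))
  have hwZ : w ∈ Z := by
    rw [hZ]
    exact ⟨hw, mem_centralizer_iff.2 fun s hs => congrArg Subtype.val (mem_center_iff.1 hwc ⟨s, hs⟩)⟩
  obtain ⟨z, hz, hz1⟩ : ∃ z, z ∈ Z ∧ z ≠ 1 := ⟨w, hwZ, fun h => hw1 (Subtype.ext h)⟩
  have hzQ : z ∈ Q := hZQ' hz
  have hoz : orderOf z = 3 := orderOf_eq_prime (hQexp z hzQ) hz1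
  have hZeq : Z = zpowers z := by
    refine (eq_of_le_of_card_ge (zpowers_le.2 hz) ?_).symm
    rw [Nat.card_zpowers, hoz, ← hcenQ]
    exact card_le_of_le hZc
  have hcenZ : (center Q).map Q.subtype = zpowers z := by
    rw [← hZeq]
    exact (eq_of_le_of_card_ge hZc (by rw [hcenQ, hZeq, Nat.card_zpowers, hoz])).symm
  have hCeq : C = centralizer ({z} : Set G) := by
    rw [hCZ, hZeq, zpowers_eq_closure, centralizer_closure]
  subst hCeq
  set pi : centralizer ({z} : Set G) →* SL₂ :=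
    e.toMonoidHom.comp (QuotientGroup.mk' (Cfsg.pCore 3 (centralizer ({z} : Set G)))) with hpi
  have hsurj : Function.Surjective pi := e.surjective.comp (QuotientGroup.mk'_surjective _)
  have hker : ∀ x, pi x = 1 ↔ (x : G) ∈ Q := fun x => by
    rw [hQ, ← mem_subgroupOf, subgroupOf, comap_map_eq_self_of_injective (subtype_injective _), hpi]
    show e _ = 1 ↔ _
    rw [MulEquiv.map_eq_one_iff]
    exact QuotientGroup.eq_one_iff x
  have hcomm : ∀ a ∈ Q, ∀ b ∈ Q, ⁅a, b⁆ ∈ zpowers z := fun a ha b hb => by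
    rw [← hcenZ]
    refine ⟨⁅(⟨a, ha⟩ : Q), ⟨b, hb⟩⁆, ?_, rfl⟩
    rw [SetLike.mem_coe, ← hQex.1.2.2, _root_.commutator_def]
    exact commutator_mem_commutator (mem_top _) (mem_top _)
  have hcard : Nat.card (centralizer ({z} : Set G)) = 5832 := by
    have h := Subgroup.card_eq_card_quotient_mul_card_subgroup
      (Cfsg.pCore 3 (centralizer ({z} : Set G)))
    rw [Nat.card_congr e.toEquiv, HeisSLThree.card_sl,
      ← card_map_of_injective (subtype_injective (centralizer ({z} : Set G))), ← hQ, hQcard] at h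
    omega
  have hnd : ¬ 3 ^ 7 ∣ Nat.card G := by
    intro h
    obtain ⟨n, hn⟩ := IsPGroup.iff_card.1 S.2
    have h1 := card_dvd_of_le hSC
    rw [hcard, hn] at h1
    have h2 : 3 ^ 7 ∣ Nat.card (S : Subgroup G) := S.pow_dvd_card_of_pow_dvd_card h
    rw [hn] at h2
    have := (dvd_trans h2 h1)
    norm_num at this
  -- the chain
  have hmono' : StrictMono A := Fin.strictMono_iff_lt_succ.2 hmono
  have hstep := fun i : Fin r => step_spec pi hsurj hker hQC hQexp hcomm
    (show zpowers z ≤ A i.castSucc by rw [← hZeq, ← hA0]; exact hmono'.monotone (Fin.zero_le _))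
    (hmono i) (by rw [← hAr]; exact hmono'.monotone (Fin.le_last _))
    (hinv _) (hinv _) (hmax i)
  have hcnt : ∀ i : Fin (r + 1), 3 ^ (i.val + 1) ≤ Nat.card (A i) := by
    intro i
    induction i using Fin.induction with
    | zero => rw [hA0, hZeq, Nat.card_zpowers, hoz]; rfl
    | succ j ih =>
      refine le_trans ?_ (hstep j).1
      rw [Fin.val_succ, pow_succ']
      exact Nat.mul_le_mul_left 3 ih
  have hdn : ∀ i : Fin (r + 1), Nat.card (A i) * 3 ^ (r - i.val) ≤ 243 := by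
    intro i
    induction i using Fin.reverseInduction with
    | last => rw [Fin.val_last, Nat.sub_self, pow_zero, mul_one, hAr, hQcard]; norm_num
    | cast j ih =>
      rw [Fin.val_succ] at ih
      rw [Fin.val_castSucc, show r - j.val = (r - (j.val + 1)) + 1 by omega, pow_succ']
      calc Nat.card (A j.castSucc) * (3 * 3 ^ (r - (j.val + 1)))
          = 3 * Nat.card (A j.castSucc) * 3 ^ (r - (j.val + 1)) := by ring
        _ ≤ _ := le_trans (Nat.mul_le_mul_right _ (hstep j).1) ih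
  obtain ⟨i, j, hij, hi, hj, -⟩ := htwo
  wlog hlt : i < j generalizing i j
  · exact this j i hij.symm hj hi (lt_of_le_of_ne (not_lt.1 hlt) hij.symm)
  have h9i := ((hstep i).2 hi).1
  have h9j := ((hstep j).2 hj).1
  have hmid : Nat.card (A i.succ) ≤ Nat.card (A j.castSucc) :=
    card_le_of_le (hmono'.monotone (by rw [Fin.le_def, Fin.val_succ, Fin.val_castSucc]; exact hlt))
  have hr : r = 2 := by
    have h1 := hcnt i.castSucc
    have h2 := hdn j.succ
    rw [Fin.val_castSucc] at h1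
    rw [Fin.val_succ] at h2
    have hjr := j.isLt
    by_contra hr
    have hb : ∀ k, 1 ≤ k → 3 ≤ 3 ^ k := fun k hk => le_self_pow₀ (by norm_num) (by omega)
    have hlow : 243 ≤ Nat.card (A j.succ) := by
      have : 3 ≤ Nat.card (A i.castSucc) := le_trans (hb _ (by omega)) h1
      omega
    rcases Nat.eq_or_lt_of_le (show j.val + 1 ≤ r by omega) with hjr' | hjr'
    · rcases Nat.eq_zero_or_pos i.val with hi0 | hi0
      · have hlt2 : i.val + 1 < j.val := by
          rcases Nat.eq_or_lt_of_le (show i.val + 1 ≤ j.val from hlt) with e' | e'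
          · omega
          · exact e'
        let m : Fin r := ⟨i.val + 1, by omega⟩
        have hm := (hstep m).1
        have hm1 : Nat.card (A i.succ) = Nat.card (A m.castSucc) := by
          congr
        have hm2 : Nat.card (A m.succ) ≤ Nat.card (A j.castSucc) :=
          card_le_of_le (hmono'.monotone (by
            rw [Fin.le_def, Fin.val_succ, Fin.val_castSucc]; show i.val + 1 + 1 ≤ j.val; omega))
        have : Nat.card (A j.succ) * 1 ≤ 243 := le_trans (Nat.mul_le_mul_left _ (Nat.one_le_pow _ _ (by norm_num))) h2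
        have : 3 ≤ Nat.card (A i.castSucc) := le_trans (hb _ (by omega)) h1
        omega
      · have : 9 ≤ 3 ^ (i.val + 1) := le_trans (by norm_num) (Nat.pow_le_pow_right (show 0 < 3 by norm_num) (show 2 ≤ i.val + 1 by omega))
        have : Nat.card (A j.succ) * 1 ≤ 243 := le_trans (Nat.mul_le_mul_left _ (Nat.one_le_pow _ _ (by norm_num))) h2
        omega
    · have : 3 ≤ 3 ^ (r - (j.val + 1)) := hb _ (by omega)
      have : Nat.card (A j.succ) * 3 ≤ 243 := le_trans (Nat.mul_le_mul_left _ this) h2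
      omega
  subst hr
  obtain rfl : i = 0 := Fin.ext (by have := j.isLt; rw [Fin.lt_def] at hlt; show i.val = 0; omega)
  obtain rfl : j = 1 := Fin.ext (by have := j.isLt; rw [Fin.lt_def] at hlt; show j.val = 1; simp at hlt ⊢; omega)
  have e0 : A (Fin.castSucc (0 : Fin 2)) = zpowers z := by rw [← hZeq, ← hA0]; rfl
  have e2 : A (Fin.succ (1 : Fin 2)) = Q := by rw [← hAr]; rfl
  have e1 : A (Fin.succ (0 : Fin 2)) = A (Fin.castSucc (1 : Fin 2)) := rfl
  have c0 : Nat.card (A (Fin.castSucc (0 : Fin 2))) = 3 := by rw [e0, Nat.card_zpowers, hoz]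
  have c2 : Nat.card (A (Fin.succ (1 : Fin 2))) = 243 := by rw [e2, hQcard]; norm_num
  rw [← e1] at hmid
  have c1 : Nat.card (A (Fin.succ (0 : Fin 2))) = 27 := by
    rw [← e1] at h9j
    omega
  have inv0 := ((hstep 0).2 hi).2 (by rw [c0, c1])
  have inv1 := ((hstep 1).2 hj).2 (by rw [c2, ← e1, c1])
  rw [e0] at inv0
  rw [e2, ← e1] at inv1
  -- the involution
  obtain ⟨c, hc⟩ := hsurj (-1)
  have hct : pi (c ^ 3) = -1 := by rw [map_pow, hc]; decide +kernel
  have ht2 : (c ^ 3 : centralizer ({z} : Set G)) * c ^ 3 = 1 := by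
    have hq : pi (c * c) = 1 := by rw [map_mul, hc]; decide +kernel
    have h3 := hQexp _ ((hker _).1 hq)
    refine Subtype.ext ?_
    rw [← pow_add, Subgroup.coe_pow, Subgroup.coe_one, show (3 + 3 : ℕ) = 2 * 3 from rfl, pow_mul]
    rw [show ((c * c : centralizer ({z} : Set G)) : G) = (c : G) ^ 2 by rw [pow_two]; rfl] at h3
    exact h3
  set t : G := ((c ^ 3 : centralizer ({z} : Set G)) : G) with ht
  have htt : t * t = 1 := congrArg Subtype.val ht2
  have ht1 : t ≠ 1 := fun h => by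
    have : (c ^ 3 : centralizer ({z} : Set G)) = 1 := Subtype.ext h
    rw [this, map_one] at hct
    exact HeisSLThree.neg_one_ne hct.symm
  have htinv : t⁻¹ = t := inv_eq_of_mul_eq_one_right htt
  have htz : ∀ a ∈ zpowers z, t * a * t⁻¹ = a := fun a ha => by
    obtain ⟨n, rfl⟩ := mem_zpowers_iff.1 ha
    rw [((mem_centralizer_singleton_iff.1 (c ^ 3).2 : t * z = z * t) |> fun h =>
      (Commute.zpow_right h n).eq), mul_inv_cancel_right]
  have hinvQ : ∀ q ∈ Q, t * q * t⁻¹ * q ∈ zpowers z := by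
    intro q hq
    have hx1 := inv1 (c ^ 3) hct q hq
    set x := t * q * t⁻¹ * q with hx
    have hx2 := inv0 (c ^ 3) hct x hx1
    have hxQ : x ∈ Q := hmono'.monotone (show (Fin.succ (0 : Fin 2)) ≤ Fin.last 2 from Fin.le_last _) hx1 |> fun h => hAr ▸ h
    have htq : t * q * t⁻¹ ∈ Q := by
      have := mul_mem hxQ (inv_mem hq)
      rwa [hx, mul_inv_cancel_right] at this
    have hflip : t * x * t⁻¹ = ⁅q, t * q * t⁻¹⁆ * x := by
      rw [hx, commutatorElement_def, htinv]
      calc t * (t * q * t * q) * t = (t * t) * q * (t * q * t) := by group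
        _ = q * (t * q * t) * q⁻¹ * (t * q * t)⁻¹ * (t * q * t * q) := by rw [htt]; group
    have hxx : x * x ∈ zpowers z := by
      have h := mul_mem (inv_mem (hcomm q hq _ htq)) hx2
      change ⁅q, t * q * t⁻¹⁆⁻¹ * (t * x * t⁻¹ * x) ∈ zpowers z at h
      rwa [hflip, mul_assoc (⁅q, t * q * t⁻¹⁆), inv_mul_cancel_left] at h
    have : x = (x * x) * (x * x) := by
      have h3 := hQexp x hxQ
      rw [pow_succ, pow_two] at h3
      rw [← mul_assoc, h3, one_mul]
    rw [this]
    exact mul_mem hxx hxx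
  refine ⟨?_, hnd⟩
  let Cf : Conf G :=
    { z := z, Q := Q, pi := pi, pi_surj := hsurj, pi_ker := hker, Q_le := hQC,
      card_Q := by rw [hQcard]; norm_num
      exp_Q := hQexp, comm_mem := hcomm
      abel_le := fun A' hA' hab => by
        have h := FGBasics.XS.card_abelian_sq_le hQex (A'.subgroupOf Q) ⟨⟨fun a b =>
          Subtype.ext (Subtype.ext (hab _ a.2 _ b.2))⟩⟩
        rw [Nat.card_congr (subgroupOfEquivOfLe hA').toEquiv, hQcard] at h
        nlinarith
      z_mem := hzQ, z_ne := hz1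
      cent_Q := fun x hx => hCQ (mem_centralizer_iff.2 fun q hq => (hx q hq).symm)
      center_Q := fun x hx h => by
        rw [← hcenZ]
        exact ⟨⟨x, hx⟩, mem_center_iff.2 fun q => Subtype.ext (h q q.2).symm, rfl⟩
      inv := ⟨t, (c ^ 3).2, htt, ht1, hinvQ⟩ }
  obtain ⟨g, hg, hgne⟩ := hZQ
  rw [hZeq, MonoidHom.map_zpowers] at hg hgne
  exact ⟨⟨Cf, g, hg (mem_zpowers _), fun h => hgne (eq_of_le_of_card_ge (zpowers_le.2 h) (by
    rw [← MonoidHom.map_zpowers, card_map_of_injective (MulAut.conj g).injective]))⟩, trivial⟩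

end Cfsg.Agent.L43Three
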