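import Cfsg.Agent.Lib.L43Three.Assembly.Act

/-!
S3373, assembly: one step of a chain of invariant subgroups between `Z` and `Q`.
-/

set_option autoImplicit false
set_option linter.style.haveILetI false
set_option linter.unusedSectionVars false

namespace Cfsg.Agent.L43Three

open Subgroup
open Cfsg.Agent.HeisSLThree (SL₂)
open scoped commutatorElement

variable {G : Type*} [Group G] [Finite G] {z : G} {Q : Subgroup G}

/-- The three properties of a step `M < N`. -/
theorem step_spec (pi : centralizer ({z} : Set G) →* SL₂) (hsurj : Function.Surjective pi)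
    (hker : ∀ x : centralizer ({z} : Set G), pi x = 1 ↔ (x : G) ∈ Q)
    (hQC : Q ≤ centralizer ({z} : Set G)) (hexp : ∀ a ∈ Q, a ^ 3 = 1)
    (hcomm : ∀ a ∈ Q, ∀ b ∈ Q, ⁅a, b⁆ ∈ zpowers z) {M N : Subgroup G} (hzM : zpowers z ≤ M)
    (hMN : M < N) (hNQ : N ≤ Q)
    (hM : ∀ c ∈ centralizer ({z} : Set G), ∀ a ∈ M, c * a * c⁻¹ ∈ M)
    (hN : ∀ c ∈ centralizer ({z} : Set G), ∀ a ∈ N, c * a * c⁻¹ ∈ N)
    (hmax : ∀ B : Subgroup G, M < B → B < N →
      ∃ c ∈ centralizer ({z} : Set G), ∃ b ∈ B, c * b * c⁻¹ ∉ B) :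
    3 * Nat.card M ≤ Nat.card N ∧
    ((∃ c ∈ centralizer ({z} : Set G), ∃ a ∈ N, c * a * c⁻¹ * a⁻¹ ∉ M) →
      9 * Nat.card M ≤ Nat.card N ∧
      (Nat.card N = 9 * Nat.card M →
        ∀ c : centralizer ({z} : Set G), pi c = -1 → ∀ a ∈ N, (c : G) * a * (c : G)⁻¹ * a ∈ M)) := by
  classical
  haveI : Fact (Nat.Prime 3) := ⟨Nat.prime_three⟩
  have hMC : M ≤ (centralizer ({z} : Set G)) := hMN.le.trans (hNQ.trans hQC)
  have hNC : N ≤ (centralizer ({z} : Set G)) := hNQ.trans hQC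
  haveI hMn : (M.subgroupOf (centralizer ({z} : Set G))).Normal := ⟨fun a ha c => hM c c.2 a ha⟩
  haveI hNn : (N.subgroupOf (centralizer ({z} : Set G))).Normal := ⟨fun a ha c => hN c c.2 a ha⟩
  set q := QuotientGroup.mk' (M.subgroupOf (centralizer ({z} : Set G))) with hq
  set W := (N.subgroupOf (centralizer ({z} : Set G))).map q with hW
  haveI hWn : W.Normal := hNn.map q (QuotientGroup.mk'_surjective _)
  have hq1 : ∀ c : (centralizer ({z} : Set G)), q c = 1 ↔ (c : G) ∈ M := fun c => by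
    rw [hq, ← MonoidHom.mem_ker, QuotientGroup.ker_mk', mem_subgroupOf]
  have hexpW : ∀ v : W, v ^ 3 = 1 := by
    rintro ⟨_, c, hc, rfl⟩
    refine Subtype.ext ?_
    show q c ^ 3 = 1
    rw [← map_pow, hq1]
    rw [SubmonoidClass.coe_pow, hexp _ (hNQ (mem_subgroupOf.1 hc))]
    exact one_mem _
  have hcW : ∀ v w : W, v * w = w * v := by
    rintro ⟨_, c, hc, rfl⟩ ⟨_, d, hd, rfl⟩
    refine Subtype.ext ?_
    show q c * q d = q d * q c
    rw [← commutatorElement_eq_one_iff_mul_comm, ← map_commutatorElement, hq1]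
    exact hzM (hcomm _ (hNQ hc) _ (hNQ hd))
  letI : CommGroup W := { (inferInstance : Group W) with mul_comm := hcW }
  have hcard : Nat.card W * Nat.card M = Nat.card N := by
    set f : N.subgroupOf (centralizer ({z} : Set G)) →* (centralizer ({z} : Set G)) ⧸ M.subgroupOf (centralizer ({z} : Set G)) := q.comp (N.subgroupOf (centralizer ({z} : Set G))).subtype with hf
    have hr : f.range = W := by rw [hf, MonoidHom.range_comp, Subgroup.range_subtype]
    have hk : f.ker = (M.subgroupOf (centralizer ({z} : Set G))).subgroupOf (N.subgroupOf (centralizer ({z} : Set G))) := by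
      ext x
      rw [MonoidHom.mem_ker, mem_subgroupOf, mem_subgroupOf]
      exact hq1 _
    have h := Subgroup.card_eq_card_quotient_mul_card_subgroup f.ker
    rw [Nat.card_congr (QuotientGroup.quotientKerEquivRange f).toEquiv, hr, hk,
      Nat.card_congr (subgroupOfEquivOfLe (show M.subgroupOf (centralizer ({z} : Set G)) ≤ N.subgroupOf (centralizer ({z} : Set G)) from
        fun x hx => hMN.le hx)).toEquiv,
      Nat.card_congr (subgroupOfEquivOfLe hMC).toEquiv,
      Nat.card_congr (subgroupOfEquivOfLe hNC).toEquiv] at h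
    exact h.symm
  have hp : IsPGroup 3 W := fun v => ⟨1, by rw [pow_one]; exact hexpW v⟩
  obtain ⟨k, hk⟩ := IsPGroup.iff_card.1 hp
  have hk0 : k ≠ 0 := by
    rintro rfl
    rw [pow_zero] at hk
    rw [hk, one_mul] at hcard
    exact hMN.ne (eq_of_le_of_card_ge hMN.le hcard.ge)
  refine ⟨?_, fun hnt => ?_⟩
  · rw [← hcard, hk]
    exact Nat.mul_le_mul_right _ (le_self_pow₀ (by norm_num) hk0)
  set act0 : (centralizer ({z} : Set G)) →* MulAut W := (MulAut.conjNormal (H := W)).comp q with hact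
  have hle : pi.ker ≤ act0.ker := by
    intro c hc
    have hcQ : (c : G) ∈ Q := (hker c).1 hc
    rw [MonoidHom.mem_ker]
    refine MulEquiv.ext ?_
    rintro ⟨_, d, hd, rfl⟩
    refine Subtype.ext ?_
    show ((MulAut.conjNormal (q c)) _ : (centralizer ({z} : Set G)) ⧸ M.subgroupOf (centralizer ({z} : Set G))) = _
    rw [MulAut.conjNormal_apply]
    show q c * q d * (q c)⁻¹ = q d
    rw [mul_inv_eq_iff_eq_mul, ← commutatorElement_eq_one_iff_mul_comm, ← map_commutatorElement,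
      hq1]
    exact hzM (hcomm _ hcQ _ (hNQ hd))
  set φ : SL₂ →* MulAut W := MonoidHom.liftOfSurjective pi hsurj ⟨act0, hle⟩ with hφ
  have happ : ∀ (c : (centralizer ({z} : Set G))) (v : W), ((φ (pi c)) v : (centralizer ({z} : Set G)) ⧸ M.subgroupOf (centralizer ({z} : Set G))) = q c * v * (q c)⁻¹ := by
    intro c v
    rw [hφ, MonoidHom.liftOfRightInverse_comp_apply]
    exact MulAut.conjNormal_apply _ _
  have hne : ∃ g v, φ g v ≠ v := by
    obtain ⟨c, hc, a, ha, hnot⟩ := hnt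
    refine ⟨pi ⟨c, hc⟩, ⟨q ⟨a, hNC ha⟩, mem_map_of_mem q ha⟩, fun h => hnot ?_⟩
    have h' := congrArg Subtype.val h
    rw [happ] at h'
    refine (hq1 (⟨c, hc⟩ * ⟨a, hNC ha⟩ * ⟨c, hc⟩⁻¹ * ⟨a, hNC ha⟩⁻¹)).1 ?_
    rw [map_mul, map_mul, map_mul, map_inv, map_inv, h', mul_inv_cancel]
  have hk1 : k ≠ 1 := by
    rintro rfl
    rw [pow_one] at hk
    obtain ⟨g, v, hgv⟩ := hne
    refine hgv ?_
    have hfix : ∀ s : SL₂, s * s * s = 1 → φ s = 1 := by
      intro s hs
      refine MulEquiv.ext fun x => ?_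
      by_contra hx
      have hx1 : x ≠ 1 := fun e => hx (by rw [e, map_one]; exact (map_one (1 : MulAut W)).symm)
      have hgen : ∀ y : W, ∃ n : ℕ, x ^ n = y := fun y =>
        (Submonoid.mem_powers_iff _ _).1 (mem_powers_of_prime_card hk hx1)
      obtain ⟨n, hn⟩ := hgen (φ s x)
      have happ' : ∀ g g' : SL₂, ∀ y, φ g (φ g' y) = φ (g * g') y := fun g g' y => by
        rw [map_mul]; rfl
      have h3 : φ s (φ s (φ s x)) = x := by rw [happ', happ', hs, map_one]; rfl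
      rw [← hn, map_pow, ← hn, ← pow_mul, map_pow, ← hn, ← pow_mul] at h3
      have hord : orderOf x = 3 := orderOf_eq_prime (hexpW x) hx1
      have h4 : n % 3 = 1 := by
        have h5 : x ^ (n * (n * n)) = x ^ 1 := by rw [pow_one]; exact h3
        rw [pow_inj_mod, hord, Nat.mul_mod, Nat.mul_mod n n] at h5
        have := Nat.mod_lt n (show 3 > 0 by norm_num)
        interval_cases hn3 : n % 3 <;> omega
      refine hx ?_
      show φ s x = x
      rw [← hn, ← pow_mod_orderOf, hord, h4, pow_one]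
    obtain ⟨a, b, c, ha, hb, hc, rfl⟩ := sl_pair g
    rw [map_mul, map_mul, hfix a ha, hfix b hb, hfix c hc]
    rfl
  refine ⟨?_, fun h9 c hc a ha => ?_⟩
  · rw [← hcard, hk]
    refine Nat.mul_le_mul_right _ ?_
    calc 9 = 3 ^ 2 := rfl
      _ ≤ 3 ^ k := Nat.pow_le_pow_right (by norm_num) (by omega)
  have hcW9 : Nat.card W = 9 := by
    have hpos : 0 < Nat.card M := Nat.card_pos
    rw [h9] at hcard
    exact Nat.eq_of_mul_eq_mul_right hpos hcard
  have hirr : ∀ B : Subgroup W, (∀ g, ∀ b ∈ B, φ g b ∈ B) → B = ⊥ ∨ B = ⊤ := by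
    intro B hB
    by_contra hcon
    push Not at hcon
    set B' : Subgroup G := ((B.map W.subtype).comap q).map (centralizer ({z} : Set G)).subtype with hB'
    have hmem : ∀ x : G, x ∈ B' ↔ ∃ hx : x ∈ (centralizer ({z} : Set G)), ∃ v ∈ B, (v : (centralizer ({z} : Set G)) ⧸ M.subgroupOf (centralizer ({z} : Set G))) = q ⟨x, hx⟩ := by
      intro x
      constructor
      · rintro ⟨⟨y, hy⟩, ⟨v, hv, e⟩, rfl⟩
        exact ⟨hy, v, hv, e⟩
      · rintro ⟨hx, v, hv, e⟩
        exact ⟨⟨x, hx⟩, ⟨v, hv, e⟩, rfl⟩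
    have hMB : M ≤ B' := fun x hx => (hmem x).2
      ⟨hMC hx, 1, one_mem _, ((hq1 ⟨x, hMC hx⟩).2 hx).symm⟩
    have hBN : B' ≤ N := by
      intro x hx
      obtain ⟨hxC, ⟨_, d, hd, rfl⟩, -, e⟩ := (hmem x).1 hx
      have he : (d⁻¹ * ⟨x, hxC⟩ : (centralizer ({z} : Set G))).1 ∈ M := (hq1 _).1 (by
        rw [map_mul, map_inv, ← e]; exact inv_mul_cancel _)
      have hdN : (d : G) ∈ N := hd
      have := mul_mem hdN (show ((d⁻¹ * ⟨x, hxC⟩ : (centralizer ({z} : Set G))) : G) ∈ N from hMN.le he)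
      simpa using this
    have hne1 : M ≠ B' := by
      intro e
      refine hcon.1 ((eq_bot_iff_forall _).2 fun v hv => ?_)
      obtain ⟨_, d, hd, rfl⟩ := v
      have : (d : G) ∈ B' := (hmem _).2 ⟨d.2, _, hv, rfl⟩
      rw [← e] at this
      exact Subtype.ext ((hq1 d).2 this)
    have hne2 : B' ≠ N := by
      intro e
      refine hcon.2 (eq_top_iff.2 fun v _ => ?_)
      obtain ⟨_, d, hd, rfl⟩ := v
      have : (d : G) ∈ B' := by rw [e]; exact hd
      obtain ⟨hx, w, hw, e'⟩ := (hmem _).1 this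
      convert hw using 1
      exact Subtype.ext e'.symm
    obtain ⟨x, hx, b, hb, hnot⟩ := hmax B' (lt_of_le_of_ne hMB hne1) (lt_of_le_of_ne hBN hne2)
    obtain ⟨hbC, v, hv, e⟩ := (hmem b).1 hb
    refine hnot ((hmem _).2 ⟨mul_mem (mul_mem hx hbC) (inv_mem hx), _, hB (pi ⟨x, hx⟩) v hv, ?_⟩)
    rw [happ, e, ← map_inv, ← map_mul, ← map_mul]
    rfl
  have h := congrArg Subtype.val
    (act_neg_inverts hexpW hcW9 φ hirr hne ⟨q ⟨a, hNC ha⟩, mem_map_of_mem q ha⟩)
  rw [← hc, happ] at h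
  have h' : q c * q ⟨a, hNC ha⟩ * (q c)⁻¹ = (q ⟨a, hNC ha⟩)⁻¹ := h
  refine (hq1 (c * ⟨a, hNC ha⟩ * c⁻¹ * ⟨a, hNC ha⟩)).1 ?_
  rw [map_mul, map_mul, map_mul, map_inv, h', inv_mul_cancel]

end Cfsg.Agent.L43Three
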